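import Cfsg.Agent.SporB.Fi22.GO.Check0
import Cfsg.Agent.SporB.Fi22.GO.Check1
import Cfsg.Agent.SporB.Fi22.GO.Check2
import Cfsg.Agent.SporB.Fi22.GO.Check3
import Cfsg.Agent.SporB.Fi22.GO.Check4
import Cfsg.Agent.SporB.Fi22.GO.Check5
import Cfsg.Agent.SporB.Fi22.GO.Check6
import Cfsg.Agent.SporB.Fi22.GO.Check7
import Cfsg.Agent.SporB.Fi22.GO.Check8
import Cfsg.Agent.SporB.Fi22.GO.Check9
import Cfsg.Agent.SporB.Fi22.GO.Check10
import Cfsg.Agent.SporB.Fi22.GO.Check11
import Cfsg.Agent.SporB.Fi22.GO.Check12
import Cfsg.Agent.SporB.Fi22.GO.Check13

set_option autoImplicit false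
set_option maxRecDepth 100000

namespace Cfsg.Agent.CosetEnum.Fi22.GO

theorem dok0 : allRange sys.checkDef 0 1024 = true := by decide +kernel

theorem dok1 : allRange sys.checkDef 1024 1024 = true := by decide +kernel

theorem dok2 : allRange sys.checkDef 2048 1024 = true := by decide +kernel

theorem dok3 : allRange sys.checkDef 3072 1024 = true := by decide +kernel

theorem dok4 : allRange sys.checkDef 4096 1024 = true := by decide +kernel

theorem dok5 : allRange sys.checkDef 5120 1024 = true := by decide +kernel

theorem dok6 : allRange sys.checkDef 6144 1024 = true := by decide +kernel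

theorem dok7 : allRange sys.checkDef 7168 1024 = true := by decide +kernel

theorem dok8 : allRange sys.checkDef 8192 1024 = true := by decide +kernel

theorem dok9 : allRange sys.checkDef 9216 1024 = true := by decide +kernel

theorem dok10 : allRange sys.checkDef 10240 1024 = true := by decide +kernel

theorem dok11 : allRange sys.checkDef 11264 1024 = true := by decide +kernel

theorem dok12 : allRange sys.checkDef 12288 1024 = true := by decide +kernel

theorem dok13 : allRange sys.checkDef 13312 1024 = true := by decide +kernel

theorem dok14 : allRange sys.checkDef 14336 274 = true := by decide +kernel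

def fchunks : List (ℕ × ℕ) := [(128, fv0), (128, fv1), (128, fv2), (128, fv3), (128, fv4), (128, fv5), (128, fv6), (128, fv7), (128, fv8), (128, fv9), (128, fv10), (128, fv11), (128, fv12), (128, fv13), (128, fv14), (128, fv15), (128, fv16), (128, fv17), (128, fv18), (128, fv19), (128, fv20), (128, fv21), (128, fv22), (128, fv23), (128, fv24), (128, fv25), (128, fv26), (128, fv27), (128, fv28), (128, fv29), (128, fv30), (128, fv31), (128, fv32), (128, fv33), (128, fv34), (128, fv35), (128, fv36), (128, fv37), (128, fv38), (128, fv39), (128, fv40), (128, fv41), (128, fv42), (128, fv43), (128, fv44), (128, fv45), (128, fv46), (128, fv47), (128, fv48), (128, fv49), (128, fv50), (128, fv51), (128, fv52), (128, fv53), (128, fv54), (128, fv55), (128, fv56), (128, fv57), (128, fv58), (128, fv59), (128, fv60), (128, fv61), (128, fv62), (128, fv63), (128, fv64), (128, fv65), (128, fv66), (128, fv67), (128, fv68), (128, fv69), (128, fv70), (128, fv71), (128, fv72), (128, fv73), (128, fv74), (128, fv75), (128, fv76), (128, fv77), (128, fv78), (128, fv79), (128, fv80), (128, fv81), (128, fv82), (128, fv83), (128, fv84), (128, fv85),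 (128, fv86), (128, fv87), (128, fv88), (128, fv89), (128, fv90), (128, fv91), (128, fv92), (128, fv93), (128, fv94), (128, fv95), (128, fv96), (128, fv97), (128, fv98), (128, fv99), (128, fv100), (128, fv101), (128, fv102), (128, fv103), (128, fv104), (128, fv105), (128, fv106), (128, fv107), (128, fv108), (128, fv109), (128, fv110), (128, fv111), (128, fv112), (128, fv113), (128, fv114), (128, fv115), (128, fv116), (128, fv117), (128, fv118), (128, fv119), (128, fv120), (128, fv121), (128, fv122), (128, fv123), (128, fv124), (128, fv125), (128, fv126), (128, fv127), (128, fv128), (128, fv129), (128, fv130), (128, fv131), (128, fv132), (128, fv133), (128, fv134), (128, fv135), (128, fv136), (128, fv137), (128, fv138), (128, fv139), (128, fv140), (128, fv141), (128, fv142), (128, fv143), (128, fv144), (128, fv145), (128, fv146), (128, fv147), (128, fv148), (128, fv149), (128, fv150), (128, fv151), (128, fv152), (128, fv153), (128, fv154), (128, fv155), (128, fv156), (128, fv157), (128, fv158), (128, fv159), (128, fv160), (128, fv161), (128, fv162), (128, fv163), (128, fv164), (128, fv165), (128, fv166), (128, fv167), (128,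 fv168), (128, fv169), (128, fv170), (128, fv171), (128, fv172), (128, fv173), (128, fv174), (128, fv175), (128, fv176), (128, fv177), (128, fv178), (128, fv179), (128, fv180), (128, fv181), (128, fv182), (128, fv183), (128, fv184), (128, fv185), (128, fv186), (128, fv187), (128, fv188), (128, fv189), (128, fv190), (128, fv191), (128, fv192), (128, fv193), (128, fv194), (128, fv195), (128, fv196), (128, fv197), (128, fv198), (128, fv199), (128, fv200), (128, fv201), (128, fv202), (128, fv203), (128, fv204), (128, fv205), (128, fv206), (128, fv207), (128, fv208), (128, fv209), (128, fv210), (128, fv211), (128, fv212), (128, fv213), (128, fv214), (128, fv215), (128, fv216), (128, fv217), (128, fv218), (128, fv219), (128, fv220), (128, fv221), (128, fv222), (128, fv223), (128, fv224), (128, fv225), (128, fv226), (128, fv227), (128, fv228), (128, fv229), (128, fv230), (128, fv231), (128, fv232), (128, fv233), (128, fv234), (128, fv235), (128, fv236), (128, fv237), (128, fv238), (128, fv239), (128, fv240), (128, fv241), (128, fv242), (128, fv243), (128, fv244), (128, fv245), (128, fv246), (128, fv247), (128, fv248), (128, fv249),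 (128, fv250), (128, fv251), (128, fv252), (128, fv253), (128, fv254), (128, fv255), (128, fv256), (128, fv257), (128, fv258), (128, fv259), (128, fv260), (128, fv261), (128, fv262), (128, fv263), (128, fv264), (128, fv265), (128, fv266), (128, fv267), (128, fv268), (128, fv269), (128, fv270), (128, fv271), (128, fv272), (128, fv273), (128, fv274), (128, fv275), (128, fv276), (128, fv277), (128, fv278), (128, fv279), (128, fv280), (128, fv281), (128, fv282), (128, fv283), (128, fv284), (128, fv285), (128, fv286), (128, fv287), (128, fv288), (128, fv289), (128, fv290), (128, fv291), (128, fv292), (128, fv293), (128, fv294), (128, fv295), (128, fv296), (128, fv297), (128, fv298), (128, fv299), (128, fv300), (128, fv301), (128, fv302), (128, fv303), (128, fv304), (128, fv305), (128, fv306), (128, fv307), (128, fv308), (128, fv309), (128, fv310), (128, fv311), (128, fv312), (128, fv313), (128, fv314), (128, fv315), (128, fv316), (128, fv317), (128, fv318), (128, fv319), (128, fv320), (128, fv321), (128, fv322), (128, fv323), (128, fv324), (128, fv325), (128, fv326), (128, fv327), (128, fv328), (128, fv329), (128, fv330), (128,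 fv331), (128, fv332), (128, fv333), (128, fv334), (128, fv335), (128, fv336), (128, fv337), (128, fv338), (128, fv339), (128, fv340), (128, fv341), (128, fv342), (128, fv343), (128, fv344), (128, fv345), (128, fv346), (128, fv347), (128, fv348), (128, fv349), (128, fv350), (128, fv351), (128, fv352), (128, fv353), (128, fv354), (128, fv355), (128, fv356), (128, fv357), (128, fv358), (128, fv359), (128, fv360), (128, fv361), (128, fv362), (128, fv363), (128, fv364), (128, fv365), (128, fv366), (128, fv367), (128, fv368), (128, fv369), (128, fv370), (128, fv371), (128, fv372), (128, fv373), (128, fv374), (128, fv375), (128, fv376), (128, fv377), (128, fv378), (128, fv379), (128, fv380), (128, fv381), (128, fv382), (128, fv383), (128, fv384), (128, fv385), (128, fv386), (128, fv387), (128, fv388), (128, fv389), (128, fv390), (128, fv391), (128, fv392), (128, fv393), (128, fv394), (128, fv395), (128, fv396), (128, fv397), (128, fv398), (128, fv399), (128, fv400), (128, fv401), (128, fv402), (128, fv403), (128, fv404), (128, fv405), (128, fv406), (128, fv407), (128, fv408), (128, fv409), (128, fv410), (128, fv411), (128, fv412),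 (128, fv413), (128, fv414), (128, fv415), (128, fv416), (128, fv417), (128, fv418), (128, fv419), (128, fv420), (128, fv421), (128, fv422), (128, fv423), (128, fv424), (128, fv425), (128, fv426), (128, fv427), (128, fv428), (128, fv429), (128, fv430), (128, fv431), (128, fv432), (128, fv433), (128, fv434), (128, fv435), (128, fv436), (128, fv437), (128, fv438), (128, fv439), (128, fv440), (76, fv441)]

def rchunks : List (ℕ × ℕ) := [(64, rv0), (64, rv1), (64, rv2), (64, rv3), (64, rv4), (64, rv5), (64, rv6), (64, rv7), (64, rv8), (64, rv9), (64, rv10), (64, rv11), (64, rv12), (64, rv13), (64, rv14), (64, rv15), (64, rv16), (64, rv17), (64, rv18), (64, rv19), (64, rv20), (64, rv21), (64, rv22), (64, rv23), (64, rv24), (64, rv25), (64, rv26), (64, rv27), (64, rv28), (64, rv29), (64, rv30), (64, rv31), (64, rv32), (64, rv33), (64, rv34), (64, rv35), (64, rv36), (64, rv37), (64, rv38), (64, rv39), (64, rv40), (64, rv41), (64, rv42), (64, rv43), (64, rv44), (64, rv45), (64, rv46), (64, rv47), (64, rv48), (64, rv49), (64, rv50), (64, rv51), (64, rv52), (64, rv53), (64, rv54), (64, rv55), (64, rv56), (64, rv57), (64, rv58), (64,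 rv59), (64, rv60), (64, rv61), (64, rv62), (64, rv63), (64, rv64), (64, rv65), (64, rv66), (64, rv67), (64, rv68), (64, rv69), (64, rv70), (64, rv71), (64, rv72), (64, rv73), (64, rv74), (64, rv75), (64, rv76), (64, rv77), (64, rv78), (64, rv79), (64, rv80), (64, rv81), (64, rv82), (64, rv83), (64, rv84), (64, rv85), (64, rv86), (64, rv87), (64, rv88), (64, rv89), (64, rv90), (64, rv91), (64, rv92), (64, rv93), (64, rv94), (64, rv95), (64, rv96), (64, rv97), (64, rv98), (64, rv99), (64, rv100), (64, rv101), (64, rv102), (64, rv103), (64, rv104), (64, rv105), (64, rv106), (64, rv107), (64, rv108), (64, rv109), (64, rv110), (64, rv111), (64, rv112), (64, rv113), (64, rv114), (64, rv115), (64, rv116), (64, rv117), (64, rv118), (64, rv119), (64, rv120), (64, rv121), (64, rv122), (64, rv123), (64, rv124), (64, rv125), (64, rv126), (64, rv127), (64, rv128), (64, rv129), (64, rv130), (64, rv131), (64, rv132), (64, rv133), (64, rv134), (64, rv135), (64, rv136), (64, rv137), (64, rv138), (64, rv139), (64, rv140), (64, rv141), (64, rv142), (64, rv143), (64, rv144), (64, rv145), (64, rv146), (64, rv147), (64, rv148), (64, rv149),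 (64, rv150), (64, rv151), (64, rv152), (64, rv153), (64, rv154), (64, rv155), (64, rv156), (64, rv157), (64, rv158), (64, rv159), (64, rv160), (64, rv161), (64, rv162), (64, rv163), (64, rv164), (64, rv165), (64, rv166), (64, rv167), (64, rv168), (64, rv169), (64, rv170), (64, rv171), (64, rv172), (64, rv173), (64, rv174), (64, rv175), (64, rv176), (64, rv177), (64, rv178), (64, rv179), (64, rv180), (64, rv181), (64, rv182), (64, rv183), (64, rv184), (64, rv185), (64, rv186), (64, rv187), (64, rv188), (64, rv189), (64, rv190), (64, rv191), (64, rv192), (64, rv193), (64, rv194), (64, rv195), (64, rv196), (64, rv197), (64, rv198), (64, rv199), (64, rv200), (64, rv201), (64, rv202), (64, rv203), (64, rv204), (64, rv205), (64, rv206), (64, rv207), (64, rv208), (64, rv209), (64, rv210), (64, rv211), (64, rv212), (64, rv213), (64, rv214), (64, rv215), (64, rv216), (64, rv217), (64, rv218), (64, rv219)]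

theorem factsOK : sys.FactsOK 14610 fchunks := ⟨fok0, fok1, fok2, fok3, fok4, fok5, fok6, fok7, fok8, fok9, fok10, fok11, fok12, fok13, fok14, fok15, fok16, fok17, fok18, fok19, fok20, fok21, fok22, fok23, fok24, fok25, fok26, fok27, fok28, fok29, fok30, fok31, fok32, fok33, fok34, fok35, fok36, fok37, fok38, fok39, fok40, fok41, fok42, fok43, fok44, fok45, fok46, fok47, fok48, fok49, fok50, fok51, fok52, fok53, fok54, fok55, fok56, fok57, fok58, fok59, fok60, fok61, fok62, fok63, fok64, fok65, fok66, fok67, fok68, fok69, fok70, fok71, fok72, fok73, fok74, fok75, fok76, fok77, fok78, fok79, fok80, fok81, fok82, fok83, fok84, fok85, fok86, fok87, fok88, fok89, fok90, fok91, fok92, fok93, fok94, fok95, fok96, fok97, fok98, fok99, fok100, fok101, fok102, fok103, fok104, fok105, fok106, fok107, fok108, fok109, fok110, fok111, fok112, fok113, fok114, fok115, fok116, fok117, fok118, fok119, fok120, fok121, fok122, fok123, fok124, fok125, fok126, fok127, fok128, fok129, fok130, fok131, fok132, fok133, fok134, fok135, fok136, fok137, fok138, fok139, fok140, fok141, fok142, fok143, fok144, fok145, fok146, fok147, fok148, fok149,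 fok150, fok151, fok152, fok153, fok154, fok155, fok156, fok157, fok158, fok159, fok160, fok161, fok162, fok163, fok164, fok165, fok166, fok167, fok168, fok169, fok170, fok171, fok172, fok173, fok174, fok175, fok176, fok177, fok178, fok179, fok180, fok181, fok182, fok183, fok184, fok185, fok186, fok187, fok188, fok189, fok190, fok191, fok192, fok193, fok194, fok195, fok196, fok197, fok198, fok199, fok200, fok201, fok202, fok203, fok204, fok205, fok206, fok207, fok208, fok209, fok210, fok211, fok212, fok213, fok214, fok215, fok216, fok217, fok218, fok219, fok220, fok221, fok222, fok223, fok224, fok225, fok226, fok227, fok228, fok229, fok230, fok231, fok232, fok233, fok234, fok235, fok236, fok237, fok238, fok239, fok240, fok241, fok242, fok243, fok244, fok245, fok246, fok247, fok248, fok249, fok250, fok251, fok252, fok253, fok254, fok255, fok256, fok257, fok258, fok259, fok260, fok261, fok262, fok263, fok264, fok265, fok266, fok267, fok268, fok269, fok270, fok271, fok272, fok273, fok274, fok275, fok276, fok277, fok278, fok279, fok280, fok281, fok282, fok283, fok284, fok285, fok286, fok287, fok288, fok289, fok290, fok291,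 fok292, fok293, fok294, fok295, fok296, fok297, fok298, fok299, fok300, fok301, fok302, fok303, fok304, fok305, fok306, fok307, fok308, fok309, fok310, fok311, fok312, fok313, fok314, fok315, fok316, fok317, fok318, fok319, fok320, fok321, fok322, fok323, fok324, fok325, fok326, fok327, fok328, fok329, fok330, fok331, fok332, fok333, fok334, fok335, fok336, fok337, fok338, fok339, fok340, fok341, fok342, fok343, fok344, fok345, fok346, fok347, fok348, fok349, fok350, fok351, fok352, fok353, fok354, fok355, fok356, fok357, fok358, fok359, fok360, fok361, fok362, fok363, fok364, fok365, fok366, fok367, fok368, fok369, fok370, fok371, fok372, fok373, fok374, fok375, fok376, fok377, fok378, fok379, fok380, fok381, fok382, fok383, fok384, fok385, fok386, fok387, fok388, fok389, fok390, fok391, fok392, fok393, fok394, fok395, fok396, fok397, fok398, fok399, fok400, fok401, fok402, fok403, fok404, fok405, fok406, fok407, fok408, fok409, fok410, fok411, fok412, fok413, fok414, fok415, fok416, fok417, fok418, fok419, fok420, fok421, fok422, fok423, fok424, fok425, fok426, fok427, fok428, fok429, fok430, fok431, fok432, fok433,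 fok434, fok435, fok436, fok437, fok438, fok439, fok440, fok441, trivial⟩

theorem rowsOK : sys.RowsOK 14080 71134 0 rchunks := ⟨rok0, rok1, rok2, rok3, rok4, rok5, rok6, rok7, rok8, rok9, rok10, rok11, rok12, rok13, rok14, rok15, rok16, rok17, rok18, rok19, rok20, rok21, rok22, rok23, rok24, rok25, rok26, rok27, rok28, rok29, rok30, rok31, rok32, rok33, rok34, rok35, rok36, rok37, rok38, rok39, rok40, rok41, rok42, rok43, rok44, rok45, rok46, rok47, rok48, rok49, rok50, rok51, rok52, rok53, rok54, rok55, rok56, rok57, rok58, rok59, rok60, rok61, rok62, rok63, rok64, rok65, rok66, rok67, rok68, rok69, rok70, rok71, rok72, rok73, rok74, rok75, rok76, rok77, rok78, rok79, rok80, rok81, rok82, rok83, rok84, rok85, rok86, rok87, rok88, rok89, rok90, rok91, rok92, rok93, rok94, rok95, rok96, rok97, rok98, rok99, rok100, rok101, rok102, rok103, rok104, rok105, rok106, rok107, rok108, rok109, rok110, rok111, rok112, rok113, rok114, rok115, rok116, rok117, rok118, rok119, rok120, rok121, rok122, rok123, rok124, rok125, rok126, rok127, rok128, rok129, rok130, rok131, rok132, rok133, rok134, rok135, rok136, rok137, rok138, rok139,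 rok140, rok141, rok142, rok143, rok144, rok145, rok146, rok147, rok148, rok149, rok150, rok151, rok152, rok153, rok154, rok155, rok156, rok157, rok158, rok159, rok160, rok161, rok162, rok163, rok164, rok165, rok166, rok167, rok168, rok169, rok170, rok171, rok172, rok173, rok174, rok175, rok176, rok177, rok178, rok179, rok180, rok181, rok182, rok183, rok184, rok185, rok186, rok187, rok188, rok189, rok190, rok191, rok192, rok193, rok194, rok195, rok196, rok197, rok198, rok199, rok200, rok201, rok202, rok203, rok204, rok205, rok206, rok207, rok208, rok209, rok210, rok211, rok212, rok213, rok214, rok215, rok216, rok217, rok218, rok219, trivial⟩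

theorem cert : Cert sys 14080 14610 71134 :=
  Cert.of_chunks [1024,1024,1024,1024,1024,1024,1024,1024,1024,1024,1024,1024,1024,1024,274] fchunks rchunks (by decide) ⟨dok0, dok1, dok2, dok3, dok4, dok5, dok6, dok7, dok8, dok9, dok10, dok11, dok12, dok13, dok14, trivial⟩ (by decide +kernel) factsOK (by decide +kernel) rowsOK (by decide +kernel)

theorem rules_ok : sys.rules.all (fun R => R.check sys rels subs) = true := by decide +kernel

theorem inv_ok : allRange (fun l => Nat.beq (sys.inv l) l) 0 (sys.nl + 1) = true := by decide +kernel

end Cfsg.Agent.CosetEnum.Fi22.GO
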